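import Groth.Agent.Lib.AmpleFin18.ProjFree
import Groth.Agent.Lib.Twist.Triv
import Groth.Agent.Lib.Twist.Pullback

/-! # The unit `N ⟶ f_* f^* N` when `f_* O_X = O_S` -/

set_option autoImplicit false
set_option linter.style.haveILetI false

universe u

open CategoryTheory Limits AlgebraicGeometry TopologicalSpace Opposite

namespace Groth.Agent.PushUnit3

open Groth.Agent.M1 Groth.Agent.M2 Groth.Agent.P1Split

variable {X S : Scheme.{u}}

/-- A morphism which is bijective on the small opens is an isomorphism. -/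
theorem isIso_of_locally_bijective {M N : S.Modules} (φ : M ⟶ N)
    (h : ∀ x : S, ∃ D : S.Opens, x ∈ D ∧ ∀ V ≤ D, Function.Bijective (φ.app V)) : IsIso φ := by
  choose D hD hloc using h
  refine Twist.isIso_of_bijective_app _ fun V => ?_
  have hcov : V ≤ ⨆ x, V ⊓ D x := fun x hx => Opens.mem_iSup.2 ⟨x, hx, hD x⟩
  have hinj : Function.Injective (φ.app V) := fun a b h =>
    modules_eq_of_locally_eq M V (fun i => V ⊓ D i) (fun i => inf_le_left) hcov a b fun i => by
      refine (hloc i _ inf_le_right).1 ?_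
      show φ.app _ (M1.mres M _ a) = φ.app _ (M1.mres M _ b)
      rw [app_mres, app_mres, h]
  refine ⟨hinj, fun n => ?_⟩
  choose m hm using fun i => (hloc i (V ⊓ D i) inf_le_right).2 (M1.mres N inf_le_left n)
  obtain ⟨g, hg, -⟩ := TopCat.Sheaf.existsUnique_gluing' ⟨_, M.isSheaf⟩ (fun i => V ⊓ D i) V
    (fun i => homOfLE inf_le_left) hcov m fun i j => by
      show M1.mres M (inf_le_left : (V ⊓ D i) ⊓ (V ⊓ D j) ≤ V ⊓ D i) (m i) =
        M1.mres M (inf_le_right : (V ⊓ D i) ⊓ (V ⊓ D j) ≤ V ⊓ D j) (m j)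
      refine (hloc i _ (inf_le_left.trans inf_le_right)).1 ?_
      rw [app_mres, app_mres, hm, hm, mres_mres, mres_mres]
  refine ⟨g, modules_eq_of_locally_eq N V (fun i => V ⊓ D i) (fun i => inf_le_left) hcov _ _ fun i => ?_⟩
  show M1.mres N _ (φ.app V g) = M1.mres N _ n
  rw [← app_mres, show M1.mres M (inf_le_left : V ⊓ D i ≤ V) g = m i from hg i, hm]

/-- Finite locally free modules have bases locally. -/
theorem exists_isBas_nhd' {M : S.Modules} (hM : FlatMod.IsFinLocFree M) (x : S) :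
    ∃ (n : ℕ) (D : S.Opens) (e : Fin n → Γ(M, D)), x ∈ D ∧ IsBas M D e := by
  obtain ⟨U, n, hxU, ⟨φ⟩⟩ := hM x
  have hb := (isBas_coprod (fun _ : Fin n => Coh.structureModule (U : Scheme.{u})) (fun _ => one ⊤)
    fun _ => isGen_one ⊤).map_iso φ.symm
  refine ⟨n, U.ι ''ᵁ ⊤, _, ?_, isBas_of_restrict U.ι M hb⟩
  exact ⟨⟨x, hxU⟩, trivial, rfl⟩

/-- If `f_* O_X = O_S` then `N ⟶ f_* f^* N` is an isomorphism for `N` finite locally free. -/
theorem isIso_unit (f : X ⟶ S) (hf : ∀ U : S.Opens, Function.Bijective (f.app U)) {N : S.Modules}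
    (hN : FlatMod.IsFinLocFree N) :
    IsIso ((Scheme.Modules.pullbackPushforwardAdjunction f).unit.app N) := by
  refine isIso_of_locally_bijective _ fun x => ?_
  obtain ⟨n, D, e, hxD, he⟩ := exists_isBas_nhd' hN x
  refine ⟨D, hxD, fun V hV => ?_⟩
  have hb := AmpleFin18.isBas_pullback f he (f ⁻¹ᵁ V) (f.preimage_mono hV)
  refine ((he V hV).of_comp_iff _).1 ?_
  have hkey : ⇑(((Scheme.Modules.pullbackPushforwardAdjunction f).unit.app N).app V) ∘
      (fun c : Fin n → Γ(S, V) => ∑ i, c i • M1.mres N hV (e i)) =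
      (fun d : Fin n → Γ(X, f ⁻¹ᵁ V) => ∑ i, d i • M1.mres ((Scheme.Modules.pullback f).obj N)
        (f.preimage_mono hV) (pullSec f N (e i))) ∘ (Equiv.piCongrRight fun _ => Equiv.ofBijective _ (hf V)) := by
    funext c
    simp only [Function.comp_apply, app_sum_smul]
    exact Finset.sum_congr rfl fun i _ => congrArg₂ (· • ·) rfl (app_mres _ hV (e i))
  rw [hkey]
  exact hb.comp (Equiv.bijective _)

theorem pullback_map_bijective (f : X ⟶ S) (hf : ∀ U : S.Opens, Function.Bijective (f.app U))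
    (N N' : S.Modules) (hN' : FlatMod.IsFinLocFree N') :
    Function.Bijective (fun φ : N ⟶ N' => (Scheme.Modules.pullback f).map φ) := by
  let adj := Scheme.Modules.pullbackPushforwardAdjunction f
  haveI := isIso_unit f hf hN'
  have e : (fun φ : N ⟶ N' => (Scheme.Modules.pullback f).map φ) =
      (adj.homEquiv N _).symm ∘ (fun φ : N ⟶ N' => φ ≫ adj.unit.app N') := by
    funext φ
    simp only [Function.comp_apply]
    rw [Adjunction.homEquiv_counit, Functor.map_comp, Category.assoc, adj.left_triangle_components,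
      Category.comp_id]
  rw [e]
  exact (Equiv.bijective _).comp
    ⟨fun a b h => (cancel_mono _).1 h, fun g => ⟨g ≫ inv (adj.unit.app N'), by simp⟩⟩

end Groth.Agent.PushUnit3
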