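import Groth.Agent.Lib.PushUnit3.Basic
import Groth.Agent.Lib.ParaF27.UFDCrit

/-! # Invertible modules trivial over the base -/

set_option autoImplicit false
set_option linter.style.haveILetI false

universe u

open CategoryTheory Limits AlgebraicGeometry TopologicalSpace Opposite

namespace Groth.Agent.PushUnit3

open Groth.Agent.M1 Groth.Agent.M2

variable {X S : Scheme.{u}} (f : X ⟶ S) (hf : ∀ U : S.Opens, Function.Bijective (f.app U))

include hf in
theorem isGen_pushforward {L : X.Modules} {U : S.Opens} {g : Γ(L, f ⁻¹ᵁ U)} (hg : Twist.IsGen L (f ⁻¹ᵁ U) g) :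
    Twist.IsGen ((Scheme.Modules.pushforward f).obj L) U g := fun V hV => by
  have h := (hg (f ⁻¹ᵁ V) (f.preimage_mono hV)).comp (hf V)
  exact h

include hf in
theorem descend (L : X.Modules) (hloc : ∀ s : S, ∃ U : S.Opens, s ∈ U ∧
      Nonempty ((Scheme.Modules.pullback (f ⁻¹ᵁ U).ι).obj L ≅ Coh.structureModule (f ⁻¹ᵁ U))) :
    ∃ N : S.Modules, PicF.IsInvertible N ∧ Nonempty (L ≅ (Scheme.Modules.pullback f).obj N) := by
  choose U hU φ using hloc
  have hgen : ∀ s, ∃ g : Γ(L, f ⁻¹ᵁ U s), Twist.IsGen L (f ⁻¹ᵁ U s) g := fun s =>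
    ParaF27.exists_isGen_of_iso ((Scheme.Modules.restrictFunctorIsoPullback _).app L ≪≫ (φ s).some)
  choose g hg using hgen
  let N := (Scheme.Modules.pushforward f).obj L
  have hN : ∀ s, Twist.IsGen N (U s) (g s) := fun s => isGen_pushforward f hf (hg s)
  refine ⟨N, Twist.isInvertible_of_local _ fun s => ⟨U s, hU s, Twist.nonempty_restrict_iso N _ _ (hN s)⟩, ?_⟩
  let adj := Scheme.Modules.pullbackPushforwardAdjunction f
  let ε : (Scheme.Modules.pullback f).obj N ⟶ L := adj.counit.app L
  have : IsIso ε := by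
    refine isIso_of_locally_bijective ε fun x => ⟨f ⁻¹ᵁ U (f x), hU (f x), fun V hV => ?_⟩
    have himg : ε.app (f ⁻¹ᵁ U (f x)) (pullSec f N (g (f x))) = g (f x) := by
      have h := congrArg (fun φ : N ⟶ N => φ.app (U (f x)) (g (f x))) (adj.right_triangle_components L)
      exact h
    refine ((((hN (f x)).pullback f) V hV).of_comp_iff _).1 ?_
    have key : ⇑(ε.app V) ∘ (fun r : Γ(X, V) => r • mres ((Scheme.Modules.pullback f).obj N) hV (pullSec f N (g (f x)))) =
        fun r : Γ(X, V) => r • mres L hV (g (f x)) := by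
      funext r
      simp only [Function.comp_apply, Scheme.Modules.Hom.app_smul, app_mres, himg]
    rw [key]
    exact hg (f x) V hV
  exact ⟨(asIso ε).symm⟩

end Groth.Agent.PushUnit3
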